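import Groth.Agent.L26.Neron.Basic
import Groth.Agent.L26.Neron.SchDense
import Groth.Agent.L19.SchDense
import Groth.Agent.L23.SchDense
import Groth.Agent.L20.FlatStalk
import Groth.Agent.L05.Point.Crit
import Groth.Agent.S17727
import Mathlib.AlgebraicGeometry.Morphisms.FlatMono
import Mathlib.AlgebraicGeometry.Morphisms.Etale
import Mathlib.AlgebraicGeometry.Noetherian

/-!
# A birational morphism is flat at a point iff it has a section through it
-/

set_option autoImplicit false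
set_option linter.style.haveILetI false

universe u

open CategoryTheory CategoryTheory.Limits AlgebraicGeometry TopologicalSpace

namespace Groth.L05.Birat

variable {X S : Scheme.{u}}

theorem ext_of_isIso_restrict (f : X ⟶ S) (U : S.Opens) [IsIso (f ∣_ U)] {T : Scheme.{u}}
    (a b : T ⟶ X) (ha : ∀ t : T, f (a t) ∈ U) (h : a ≫ f = b ≫ f) : a = b := by
  have hb : ∀ t : T, f (b t) ∈ U := fun t => by
    rw [← Scheme.Hom.comp_apply, ← h, Scheme.Hom.comp_apply]; exact ha t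
  let a' : T ⟶ (f ⁻¹ᵁ U : Scheme.{u}) := IsOpenImmersion.lift (f ⁻¹ᵁ U).ι a (by
    rintro _ ⟨t, rfl⟩
    rw [Scheme.Opens.range_ι]
    exact ha t)
  let b' : T ⟶ (f ⁻¹ᵁ U : Scheme.{u}) := IsOpenImmersion.lift (f ⁻¹ᵁ U).ι b (by
    rintro _ ⟨t, rfl⟩
    rw [Scheme.Opens.range_ι]
    exact hb t)
  have ha' : a' ≫ (f ⁻¹ᵁ U).ι = a := IsOpenImmersion.lift_fac _ _ _
  have hb' : b' ≫ (f ⁻¹ᵁ U).ι = b := IsOpenImmersion.lift_fac _ _ _
  have hab : a' = b' := by
    rw [← cancel_mono (f ∣_ U), ← cancel_mono U.ι, Category.assoc, Category.assoc, morphismRestrict_ι,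
      reassoc_of% ha', reassoc_of% hb', h]
  rw [← ha', ← hb', hab]

variable (f : X ⟶ S) (U : S.Opens)

theorem exists_section_of_flat [IsLocallyNoetherian S] [LocallyOfFiniteType f] [IsIso (f ∣_ U)]
    (hdense : CInt.IsSchematicallyDense (f ⁻¹ᵁ U)) (x : X) (hx : (f.stalkMap x).hom.Flat) :
    ∃ (V : S.Opens) (hV : f x ∈ V) (σ : (V : Scheme.{u}) ⟶ X),
      σ ≫ f = V.ι ∧ σ ⟨f x, hV⟩ = x := by
  haveI : LocallyOfFinitePresentation f := LocallyOfFinitePresentation.iff_locallyOfFiniteType.mpr ‹_›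
  obtain ⟨W, hW, hxW, hWfl⟩ := exists_isAffineOpen_mem_and_subset (x := x)
    (U := (⟨_, Groth.L20.isOpen_flat_stalkMap f⟩ : X.Opens)) hx
  haveI : Flat (W.ι ≫ f) := by
    rw [Flat.iff_flat_stalkMap]
    intro z
    rw [Scheme.Hom.stalkMap_comp]
    exact RingHom.Flat.comp (hWfl z.2) (RingHom.Flat.of_bijective (ConcreteCategory.bijective_of_isIso (W.ι.stalkMap z)))
  let V : S.Opens := ⟨Set.range (W.ι ≫ f), (W.ι ≫ f).isOpenMap.isOpen_range⟩
  let g : (W : Scheme.{u}) ⟶ V := IsOpenImmersion.lift V.ι (W.ι ≫ f) (by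
    rw [Scheme.Opens.range_ι]; rfl)
  have hg : g ≫ V.ι = W.ι ≫ f := IsOpenImmersion.lift_fac _ _ _
  haveI : Flat g := MorphismProperty.of_postcomp (W := @Flat) (W' := @IsOpenImmersion) g V.ι inferInstance
    (by rw [hg]; infer_instance)
  haveI : LocallyOfFinitePresentation g := MorphismProperty.of_postcomp
    (W := @LocallyOfFinitePresentation) (W' := @IsOpenImmersion) g V.ι inferInstance
    (by rw [hg]; infer_instance)
  haveI : Surjective g := ⟨fun v => by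
    obtain ⟨w, hw⟩ := v.2
    refine ⟨w, V.ι.injective ?_⟩
    rw [← Scheme.Hom.comp_apply, hg]
    exact hw⟩
  haveI : IsAffine W := hW
  haveI : IsSeparated g := inferInstance
  have hgv : ∀ w : W, (g w).1 = f w.1 := fun w => by
    change V.ι (g w) = f (W.ι w)
    rw [← Scheme.Hom.comp_apply, hg]
    rfl
  let U' : (V : Scheme.{u}).Opens := V.ι ⁻¹ᵁ U
  have hpre : g ⁻¹ᵁ U' = W.ι ⁻¹ᵁ (f ⁻¹ᵁ U) := by
    rw [← Scheme.Hom.comp_preimage, hg, Scheme.Hom.comp_preimage]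
  have hU' : CInt.IsSchematicallyDense U' := by
    refine Groth.L23.isSchematicallyDense_of_preimage g U' ?_
    rw [hpre]
    exact Groth.Agent.NeronL.schDense_restrict hdense W
  let p : pullback g g ⟶ (V : Scheme.{u}) := pullback.fst g g ≫ g
  have hP : CInt.IsSchematicallyDense (p ⁻¹ᵁ U') := Groth.Agent.L19.SchDense.isSchematicallyDense_preimage p U' hU'
  have heq : pullback.fst g g = pullback.snd g g := by
    refine Groth.Agent.NeronL.eq_of_fac (p ⁻¹ᵁ U').ι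
      (fun c _ l hl => Groth.Agent.NeronL.ker_eq_bot_of_schDense hP c l hl) _ _ g pullback.condition ?_
    rw [← cancel_mono W.ι]
    refine ext_of_isIso_restrict f U _ _ (fun z => ?_) ?_
    · have hz : (g (pullback.fst g g z.1)).1 ∈ U := z.2
      rw [hgv] at hz
      exact hz
    · simp only [Category.assoc, ← hg]
      rw [pullback.condition_assoc]
  haveI : Mono g := ⟨fun a b hab => by
    have := congrArg (pullback.lift a b hab ≫ ·) heq
    exact (pullback.lift_fst a b hab).symm.trans (this.trans (pullback.lift_snd a b hab))⟩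
  haveI := IsOpenImmersion.of_flat_of_mono g
  haveI : IsIso g := (isIso_iff_isOpenImmersion_and_epi_base _).mpr
    ⟨inferInstance, (TopCat.epi_iff_surjective _).mpr g.surjective⟩
  refine ⟨V, ⟨⟨x, hxW⟩, rfl⟩, inv g ≫ W.ι, ?_, ?_⟩
  · rw [Category.assoc, ← hg, IsIso.inv_hom_id_assoc]
  · have hgx : g ⟨x, hxW⟩ = ⟨f x, ⟨⟨x, hxW⟩, rfl⟩⟩ := Subtype.ext (hgv ⟨x, hxW⟩)
    rw [← hgx, Scheme.Hom.comp_apply, ← Scheme.Hom.comp_apply g, IsIso.hom_inv_id]
    rfl

theorem exists_etale_of_section [IsIso (f ∣_ U)]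
    (hdense : CInt.IsSchematicallyDense (f ⁻¹ᵁ U)) (x : X) (V : S.Opens) (hV : f x ∈ V)
    (σ : (V : Scheme.{u}) ⟶ X) (hσ : σ ≫ f = V.ι) (hσx : σ ⟨f x, hV⟩ = x) :
    ∃ W : X.Opens, x ∈ W ∧ Etale (W.ι ≫ f) := by
  let E : X.Opens := f ⁻¹ᵁ V
  let f' : (E : Scheme.{u}) ⟶ V := f ∣_ V
  let σ' : (V : Scheme.{u}) ⟶ E := IsOpenImmersion.lift E.ι σ (by
    rintro _ ⟨v, rfl⟩
    rw [Scheme.Opens.range_ι]
    change f (σ v) ∈ V
    rw [← Scheme.Hom.comp_apply, hσ]
    exact v.2)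
  have hσ' : σ' ≫ E.ι = σ := IsOpenImmersion.lift_fac _ _ _
  have hsec : σ' ≫ f' = 𝟙 _ := by
    rw [← cancel_mono V.ι, Category.assoc, morphismRestrict_ι, reassoc_of% hσ', hσ, Category.id_comp]
  let U' : (V : Scheme.{u}).Opens := V.ι ⁻¹ᵁ U
  have hiso : IsIso (f' ∣_ U') := by
    have sq := (isPullback_morphismRestrict f' U').paste_vert (isPullback_morphismRestrict f V)
    let k : (U' : Scheme.{u}) ⟶ U := IsOpenImmersion.lift U.ι (U'.ι ≫ V.ι) (by
      rintro _ ⟨v, rfl⟩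
      rw [Scheme.Opens.range_ι]
      exact v.2)
    let l : ((f' ⁻¹ᵁ U' : (E : Scheme.{u}).Opens) : Scheme.{u}) ⟶ (f ⁻¹ᵁ U : Scheme.{u}) :=
      IsOpenImmersion.lift (f ⁻¹ᵁ U).ι ((f' ⁻¹ᵁ U').ι ≫ E.ι) (by
        rintro _ ⟨v, rfl⟩
        rw [Scheme.Opens.range_ι]
        have h := v.2
        change (V.ι (f' v.1)) ∈ U at h
        rw [← Scheme.Hom.comp_apply, morphismRestrict_ι, Scheme.Hom.comp_apply] at h
        exact h)
    have hk : k ≫ U.ι = U'.ι ≫ V.ι := IsOpenImmersion.lift_fac _ _ _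
    have hl : l ≫ (f ⁻¹ᵁ U).ι = (f' ⁻¹ᵁ U').ι ≫ E.ι := IsOpenImmersion.lift_fac _ _ _
    have hsq : (f' ∣_ U') ≫ k = l ≫ (f ∣_ U) := by
      rw [← cancel_mono U.ι, Category.assoc, hk, Category.assoc, morphismRestrict_ι, reassoc_of% hl,
        morphismRestrict_ι_assoc]
      simp [f', morphismRestrict_ι, E]
    rw [← hk, ← hl] at sq
    have := IsPullback.of_bot sq hsq (isPullback_morphismRestrict f U)
    exact MorphismProperty.of_isPullback (P := MorphismProperty.isomorphisms Scheme.{u}) this.flip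
      (‹IsIso (f ∣_ U)›)
  have hpre : f' ⁻¹ᵁ U' = E.ι ⁻¹ᵁ (f ⁻¹ᵁ U) := by
    rw [← Scheme.Hom.comp_preimage, morphismRestrict_ι, Scheme.Hom.comp_preimage]
  have hd' : CInt.IsSchematicallyDense (f' ⁻¹ᵁ U') := by
    rw [hpre]; exact Groth.Agent.NeronL.schDense_restrict hdense E
  have hU' : CInt.IsSchematicallyDense U' := by
    intro A
    rw [injective_iff_map_eq_zero]
    intro s hs
    have h1 : f'.app A s = 0 := by
      apply hd' (f' ⁻¹ᵁ A)
      rw [map_zero]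
      have := congrArg (f'.app (A ⊓ U')) hs
      rw [map_zero, ← ConcreteCategory.comp_apply, f'.naturality] at this
      exact this
    have h2 : (σ' ≫ f').app A s = 0 := by
      rw [Scheme.Hom.comp_app]
      exact (congrArg (σ'.app _) h1).trans (map_zero _)
    rw [Scheme.Hom.congr_app hsec A, CommRingCat.comp_apply, Scheme.Hom.id_app] at h2
    refine (ConcreteCategory.bijective_of_isIso ((V : Scheme.{u}).presheaf.map
      (eqToHom (congrArg (fun h : (V : Scheme.{u}) ⟶ V => h ⁻¹ᵁ A) hsec)).op)).1 ?_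
    exact h2.trans (map_zero _).symm
  obtain ⟨W, hW, hWo⟩ := Groth.Agent.S17727.result f' U' hU' hiso hd' σ' hsec ⟨f x, hV⟩
  refine ⟨E.ι ''ᵁ W, ⟨_, hW, (congrArg (fun h : (V : Scheme.{u}) ⟶ X => h.base ⟨f x, hV⟩) hσ').trans hσx⟩, ?_⟩
  have h1 : (E.ι ''ᵁ W).ι ≫ f = (E.ι.isoImage W).inv ≫ ((W.ι ≫ f') ≫ V.ι) := by
    rw [Category.assoc, morphismRestrict_ι, ← Scheme.Hom.isoImage_inv_ι_assoc]
  rw [h1]
  infer_instance

theorem flat_of_etale_nhd (x : X) (h : ∃ W : X.Opens, x ∈ W ∧ Etale (W.ι ≫ f)) :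
    (f.stalkMap x).hom.Flat := by
  obtain ⟨W, hxW, hW⟩ := h
  exact Groth.L05.Point.flat_of_nhd f ⟨W, hxW, inferInstance⟩

end Groth.L05.Birat
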